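import Mathlib
import Cfsg.Agent.Lib.Helper5.SylTor1

set_option autoImplicit false

/-! Pure arithmetic for the index of the symplectic-type subgroup of `SL_n(q)`. -/

namespace Cfsg.Agent.Lib.Helper5.Sy68

/-- splitting the product of `q^j - 1` into even and odd exponents -/
theorem prod_split (q d : ℕ) :
    ∏ j ∈ Finset.range (2 * d), (q ^ (j + 1) - 1) =
      (∏ i ∈ Finset.range d, (q ^ (2 * (i + 1)) - 1)) * ∏ i ∈ Finset.range d, (q ^ (2 * i + 1) - 1) := by
  induction d with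
  | zero => simp
  | succ d ih =>
    rw [show 2 * (d + 1) = 2 * d + 1 + 1 by ring, Finset.prod_range_succ, Finset.prod_range_succ, ih,
      Finset.prod_range_succ, Finset.prod_range_succ]
    have : 2 * d + 1 + 1 = 2 * (d + 1) := by ring
    rw [this]
    ring

theorem prod_gl (q n : ℕ) (hq : 1 ≤ q) :
    ∏ i ∈ Finset.range n, (q ^ n - q ^ i) =
      (∏ i ∈ Finset.range n, q ^ i) * ∏ j ∈ Finset.range n, (q ^ (j + 1) - 1) := by
  rw [← Finset.prod_range_reflect (fun j => q ^ (j + 1) - 1) n, ← Finset.prod_mul_distrib]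
  refine Finset.prod_congr rfl fun i hi => ?_
  rw [Finset.mem_range] at hi
  have h1 : n - 1 - i + 1 = n - i := by omega
  rw [h1, Nat.mul_sub, mul_one, ← pow_add, Nat.add_sub_cancel' hi.le]

/-- the key divisibility -/
theorem index_dvd (q d I k S : ℕ) (hq : 2 ≤ q)
    (hS : S = q ^ (d ^ 2) * ∏ i ∈ Finset.range d, (q ^ (2 * (i + 1)) - 1))
    (hSL : (q - 1) * (S * k * I) = ∏ i ∈ Finset.range (2 * d), (q ^ (2 * d) - q ^ i)) (hd : 1 ≤ d) :
    I ∣ (∏ i ∈ Finset.range (2 * d), q ^ i) * ∏ i ∈ Finset.range (d - 1), (q ^ (2 * (i + 1) + 1) - 1) := by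
  rw [prod_gl q (2 * d) (by omega), prod_split] at hSL
  obtain ⟨d', rfl⟩ : ∃ d', d = d' + 1 := ⟨d - 1, by omega⟩
  rw [Finset.prod_range_succ' (fun i => q ^ (2 * i + 1) - 1)] at hSL
  simp only [mul_zero, zero_add, pow_one] at hSL
  set E := ∏ i ∈ Finset.range (d' + 1), (q ^ (2 * (i + 1)) - 1) with hE
  set O := ∏ i ∈ Finset.range d', (q ^ (2 * (i + 1) + 1) - 1) with hO
  set Pq := ∏ i ∈ Finset.range (2 * (d' + 1)), q ^ i with hPq
  have hEpos : 0 < E := by
    apply Finset.prod_pos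
    intro i _
    have : 2 ≤ q ^ (2 * (i + 1)) := by
      calc 2 ≤ q := hq
        _ = q ^ 1 := (pow_one q).symm
        _ ≤ q ^ (2 * (i + 1)) := Nat.pow_le_pow_right (by omega) (by omega)
    omega
  have hq1 : 0 < q - 1 := by omega
  have h1 : ((q - 1) * E) * (q ^ ((d' + 1) ^ 2) * k * I) = ((q - 1) * E) * (Pq * O) := by
    rw [hS] at hSL
    calc ((q - 1) * E) * (q ^ ((d' + 1) ^ 2) * k * I)
        = (q - 1) * (q ^ ((d' + 1) ^ 2) * E * k * I) := by ring
      _ = Pq * (E * (O * (q - 1))) := hSL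
      _ = ((q - 1) * E) * (Pq * O) := by ring
  have h2 := Nat.eq_of_mul_eq_mul_left (Nat.mul_pos hq1 hEpos) h1
  simp only [Nat.add_sub_cancel]
  exact ⟨q ^ ((d' + 1) ^ 2) * k, by rw [← h2]; ring⟩

variable {r : ℕ} [hr : Fact r.Prime]

/-- from the divisibility to the order of `q` modulo `r` -/
theorem ord_of_dvd (q d I : ℕ) (hq : 2 ≤ q) (hrq : ¬ r ∣ q) (hrI : r ∣ I)
    (hI : I ∣ (∏ i ∈ Finset.range (2 * d), q ^ i) *
      ∏ i ∈ Finset.range (d - 1), (q ^ (2 * (i + 1) + 1) - 1)) :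
    Odd (orderOf (q : ZMod r)) ∧ orderOf (q : ZMod r) + 1 ≤ 2 * d := by
  have h1 := hrI.trans hI
  rcases (Nat.Prime.dvd_mul hr.out).mp h1 with h | h
  · exfalso
    rw [Prime.dvd_finsetProd_iff (Nat.Prime.prime hr.out)] at h
    obtain ⟨i, -, hi⟩ := h
    exact hrq (hr.out.dvd_of_dvd_pow hi)
  · rw [Prime.dvd_finsetProd_iff (Nat.Prime.prime hr.out)] at h
    obtain ⟨i, hi, hdvd⟩ := h
    rw [Finset.mem_range] at hi
    rw [Cfsg.Agent.Lib.Helper5.SylTor.dvd_pow_sub_one_iff (by omega)] at hdvd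
    constructor
    · have hodd : Odd (2 * (i + 1) + 1) := ⟨i + 1, rfl⟩
      obtain ⟨c, hc⟩ := hdvd
      rw [hc] at hodd
      exact (Nat.odd_mul.mp hodd).1
    · have := Nat.le_of_dvd (by omega) hdvd
      omega

end Cfsg.Agent.Lib.Helper5.Sy68
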