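import Mathlib
import Cfsg.Prelude.Def_GeometricClasses
import Cfsg.Agent.Lib.Helper5.Sy68.ArithA
import Cfsg.Agent.Lib.Helper5.SpQf9
import Cfsg.Agent.Lib.Helper5.IsoTransfer
import Cfsg.Agent.Lib.Helper1.SLCard
import Cfsg.Agent.Lib.Helper9.GSpInv2

set_option autoImplicit false

/-! The index of the symplectic-type subgroup of `SL_n(q)` divides
`q^s * ∏ (q^(2i+1) - 1)`. -/

namespace Cfsg.Agent.Lib.Helper5.Sy68

open Matrix Cfsg.Agent.Lib.Helper9.H9GSpInv Cfsg.Agent.Lib.Helper9.H9AltForm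
  Cfsg.Agent.Lib.Helper5.IsoTransfer

variable {F : Type*} [Field F]

/-- the isometry group of a function form -/
def isoSub {n : ℕ} (f : (Fin n → F) → (Fin n → F) → F) : Subgroup (GL (Fin n) F) :=
  Cfsg.preserving (Cfsg.glToMat (Fin n) F) f

theorem mem_isoSub {n : ℕ} (f : (Fin n → F) → (Fin n → F) → F) (g : GL (Fin n) F) :
    g ∈ isoSub f ↔ ∀ u v, f ((g : Matrix _ _ F) *ᵥ u) ((g : Matrix _ _ F) *ᵥ v) = f u v := Iff.rfl

/-- a linear equivalence carrying `f` to the standard symplectic form -/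
theorem exists_std_equiv {d : ℕ} (f : (Fin (d + d) → F) → (Fin (d + d) → F) → F)
    (hf : Cfsg.Geo.IsSymplecticForm f) :
    ∃ φ : (Fin (d + d) → F) ≃ₗ[F] (Fin d ⊕ Fin d → F),
      ∀ u v, Cfsg.sympForm d F (φ u) (φ v) = f u v := by
  obtain ⟨m, b, hm, hb⟩ := exists_symplectic_basis (bfOf_isAlt f hf) (bfOf_nondeg f hf)
  rw [Module.finrank_pi, Fintype.card_fin] at hm
  obtain rfl : m = d := by omega
  refine ⟨b.equivFun, ?_⟩
  intro u v
  have hu : u = ∑ x, b.equivFun u x • b x := (b.sum_equivFun u).symm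
  have hv : v = ∑ y, b.equivFun v y • b y := (b.sum_equivFun v).symm
  have h1 : f u v = bfOf f hf.bilinear u v := rfl
  rw [h1]
  conv_rhs => rw [hu, hv]
  rw [LinearMap.BilinForm.sum_left]
  unfold Cfsg.sympForm
  rw [dotProduct]
  refine Finset.sum_congr rfl fun x _ => ?_
  rw [LinearMap.BilinForm.sum_right, Matrix.mulVec, dotProduct, Finset.mul_sum]
  refine Finset.sum_congr rfl fun y _ => ?_
  rw [LinearMap.BilinForm.smul_left, LinearMap.BilinForm.smul_right, hb]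
  ring

theorem glEquiv_mem_spGL_iff {d : ℕ} (f : (Fin (d + d) → F) → (Fin (d + d) → F) → F)
    (φ : (Fin (d + d) → F) ≃ₗ[F] (Fin d ⊕ Fin d → F))
    (hφ : ∀ u v, Cfsg.sympForm d F (φ u) (φ v) = f u v) (g : GL (Fin (d + d)) F) :
    g ∈ isoSub f ↔ glEquiv φ g ∈ Cfsg.spGL d F := by
  rw [mem_isoSub, Cfsg.Agent.Lib.Helper5.SpQf.mem_spGL_iff]
  constructor
  · intro h u' v'
    obtain ⟨u, rfl⟩ := φ.surjective u'
    obtain ⟨v, rfl⟩ := φ.surjective v'
    rw [glEquiv_mulVec, glEquiv_mulVec, hφ, hφ, h]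
  · intro h u v
    have := h (φ u) (φ v)
    rw [glEquiv_mulVec, glEquiv_mulVec, hφ, hφ] at this
    exact this

theorem det_glEquiv {ι₁ ι₂ : Type} [Fintype ι₁] [DecidableEq ι₁] [Fintype ι₂] [DecidableEq ι₂]
    (φ : (ι₁ → F) ≃ₗ[F] (ι₂ → F)) (g : GL ι₁ F) :
    ((glEquiv φ g : GL ι₂ F) : Matrix ι₂ ι₂ F).det = ((g : GL ι₁ F) : Matrix ι₁ ι₁ F).det := by
  have h : Matrix.toLin' ((glEquiv φ g : GL ι₂ F) : Matrix ι₂ ι₂ F) =
      (φ : (ι₁ → F) →ₗ[F] (ι₂ → F)) ∘ₗ Matrix.toLin' ((g : GL ι₁ F) : Matrix ι₁ ι₁ F) ∘ₗ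
        (φ.symm : (ι₂ → F) →ₗ[F] (ι₁ → F)) := by
    apply LinearMap.ext
    intro w
    obtain ⟨v, rfl⟩ := φ.surjective w
    simp only [LinearMap.comp_apply, LinearEquiv.coe_coe, LinearEquiv.symm_apply_apply,
      Matrix.toLin'_apply]
    exact glEquiv_mulVec φ g v
  rw [← LinearMap.det_toLin', h, LinearMap.det_conj, LinearMap.det_toLin']

theorem det_of_mem_isoSub {d : ℕ} (f : (Fin (d + d) → F) → (Fin (d + d) → F) → F)
    (hf : Cfsg.Geo.IsSymplecticForm f) (g : GL (Fin (d + d)) F) (hg : g ∈ isoSub f) :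
    ((g : GL (Fin (d + d)) F) : Matrix (Fin (d + d)) (Fin (d + d)) F).det = 1 := by
  obtain ⟨φ, hφ⟩ := exists_std_equiv f hf
  have h1 := (glEquiv_mem_spGL_iff f φ hφ g).1 hg
  rw [← det_glEquiv φ g]
  apply SymplecticGroup.det_eq_one
  rw [Cfsg.Agent.Lib.Helper1.SpCard.mem_symplectic_iff_form]
  exact (Cfsg.Agent.Lib.Helper5.SpQf.mem_spGL_iff _).1 h1

variable [Fintype F]

theorem card_isoSub {d : ℕ} (f : (Fin (d + d) → F) → (Fin (d + d) → F) → F)
    (hf : Cfsg.Geo.IsSymplecticForm f) :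
    Nat.card ↥(isoSub f) = Nat.card (Matrix.symplecticGroup (Fin d) F) := by
  obtain ⟨φ, hφ⟩ := exists_std_equiv f hf
  rw [← Cfsg.Agent.Lib.Helper5.SpQf.card_spGL]
  exact Nat.card_congr (Equiv.subtypeEquiv (glEquiv φ).toEquiv
    (fun g => glEquiv_mem_spGL_iff f φ hφ g))

theorem card_comap_isoSub {d : ℕ} (f : (Fin (d + d) → F) → (Fin (d + d) → F) → F)
    (hf : Cfsg.Geo.IsSymplecticForm f) :
    Nat.card ↥((isoSub f).comap (Matrix.SpecialLinearGroup.toGL :
      Matrix.SpecialLinearGroup (Fin (d + d)) F →* GL (Fin (d + d)) F)) =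
      Nat.card ↥(isoSub f) := by
  apply Nat.card_congr
  refine Equiv.ofBijective (fun x => ⟨Matrix.SpecialLinearGroup.toGL x.1, x.2⟩) ⟨?_, ?_⟩
  · intro x y hxy
    apply Subtype.ext
    have := congrArg Subtype.val hxy
    exact Matrix.SpecialLinearGroup.toGL_injective this
  · rintro ⟨g, hg⟩
    have hdet := det_of_mem_isoSub f hf g hg
    obtain ⟨x, hx⟩ : ∃ x : Matrix.SpecialLinearGroup (Fin (d + d)) F,
        Matrix.SpecialLinearGroup.toGL x = g := ⟨⟨_, hdet⟩, Units.ext rfl⟩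
    have hmem : x ∈ (isoSub f).comap
          (Matrix.SpecialLinearGroup.toGL :
            Matrix.SpecialLinearGroup (Fin (d + d)) F →* GL (Fin (d + d)) F) := by
      rw [Subgroup.mem_comap, hx]
      exact hg
    refine ⟨⟨x, hmem⟩, ?_⟩
    apply Subtype.ext
    exact hx

theorem comap_isoSub_le {n : ℕ} (f : (Fin n → F) → (Fin n → F) → F) :
    (isoSub f).comap (Matrix.SpecialLinearGroup.toGL :
      Matrix.SpecialLinearGroup (Fin n) F →* GL (Fin n) F) ≤
    (Cfsg.Geo.similarityGroup f).comap (Matrix.SpecialLinearGroup.toGL :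
      Matrix.SpecialLinearGroup (Fin n) F →* GL (Fin n) F) := by
  intro x hx
  rw [Subgroup.mem_comap] at hx ⊢
  refine ⟨1, fun u v => ?_⟩
  rw [Units.val_one, one_mul]
  exact hx u v

/-- the index divides the expected number -/
theorem index_dvd_main {q : ℕ} (hq : Fintype.card F = q) {d : ℕ} (hd : 1 ≤ d)
    (f : (Fin (d + d) → F) → (Fin (d + d) → F) → F) (hf : Cfsg.Geo.IsSymplecticForm f) :
    ((Cfsg.Geo.similarityGroup f).comap (Matrix.SpecialLinearGroup.toGL :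
      Matrix.SpecialLinearGroup (Fin (d + d)) F →* GL (Fin (d + d)) F)).index ∣
      (∏ i ∈ Finset.range (2 * d), q ^ i) *
        ∏ i ∈ Finset.range (d - 1), (q ^ (2 * (i + 1) + 1) - 1) := by
  set H := (Cfsg.Geo.similarityGroup f).comap (Matrix.SpecialLinearGroup.toGL :
      Matrix.SpecialLinearGroup (Fin (d + d)) F →* GL (Fin (d + d)) F) with hH
  set S₀ := (isoSub f).comap (Matrix.SpecialLinearGroup.toGL :
      Matrix.SpecialLinearGroup (Fin (d + d)) F →* GL (Fin (d + d)) F) with hS₀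
  have hle : S₀ ≤ H := comap_isoSub_le f
  have hq2 : 2 ≤ q := by
    rw [← hq]
    exact Fintype.one_lt_card
  obtain ⟨k, hk⟩ := Subgroup.card_dvd_of_le hle
  have hS : Nat.card S₀ = q ^ (d ^ 2) * ∏ i ∈ Finset.range d, (q ^ (2 * (i + 1)) - 1) := by
    rw [hS₀, card_comap_isoSub f hf, card_isoSub f hf]
    exact Cfsg.Agent.S0245.result hq d
  have hlag := H.card_mul_index
  have hSL := Cfsg.Agent.Lib.Helper1.card_SL_field (F := F) (d + d) (by omega)
  rw [hq, ← hlag, hk] at hSL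
  apply index_dvd q d H.index k (Nat.card S₀) hq2 hS _ hd
  rw [hSL, Finset.prod_fin_eq_prod_range]
  have h2 : d + d = 2 * d := by ring
  rw [h2]
  refine Finset.prod_congr rfl fun i hi => ?_
  rw [Finset.mem_range] at hi
  rw [dif_pos hi]

end Cfsg.Agent.Lib.Helper5.Sy68
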