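import Mathlib
import Cfsg.Prelude.Def_GeometricClasses

set_option autoImplicit false

/-! Symplectic forms having a given matrix as a similarity: transfer along conjugation and
Gram-matrix consequences. -/

namespace Cfsg.Agent.Lib.Helper5.Sy68

open Matrix

variable {F : Type*} [Field F] {n : ℕ}

/-- `X` is a similarity of some nondegenerate alternating form on `F^n`. -/
def HasForm (X : Matrix (Fin n) (Fin n) F) : Prop :=
  ∃ f' : (Fin n → F) → (Fin n → F) → F, Cfsg.Geo.IsSymplecticForm f' ∧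
    ∃ c : F, c ≠ 0 ∧ ∀ u v, f' (X *ᵥ u) (X *ᵥ v) = c * f' u v

theorem hasForm_of_conj_mem (f : (Fin n → F) → (Fin n → F) → F)
    (hf : Cfsg.Geo.IsSymplecticForm f) (x P : Matrix.SpecialLinearGroup (Fin n) F)
    (h : P⁻¹ * x * P ∈ (Cfsg.Geo.similarityGroup f).comap
      (Matrix.SpecialLinearGroup.toGL : Matrix.SpecialLinearGroup (Fin n) F →* GL (Fin n) F)) :
    HasForm (x : Matrix (Fin n) (Fin n) F) := by
  obtain ⟨c, hc⟩ := h
  set Pi : Matrix (Fin n) (Fin n) F := ((P⁻¹ : Matrix.SpecialLinearGroup (Fin n) F) :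
    Matrix (Fin n) (Fin n) F) with hPi
  set Pm : Matrix (Fin n) (Fin n) F := (P : Matrix (Fin n) (Fin n) F) with hPm
  have hPiP : Pi * Pm = 1 := by
    rw [hPi, hPm, ← Matrix.SpecialLinearGroup.coe_mul, inv_mul_cancel,
      Matrix.SpecialLinearGroup.coe_one]
  have hPPi : Pm * Pi = 1 := by
    rw [hPi, hPm, ← Matrix.SpecialLinearGroup.coe_mul, mul_inv_cancel,
      Matrix.SpecialLinearGroup.coe_one]
  refine ⟨fun u v => f (Pi *ᵥ u) (Pi *ᵥ v), ⟨⟨?_, ?_, ?_, ?_⟩, ?_, ?_, ?_⟩, (c : F), c.ne_zero, ?_⟩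
  · intro a b v
    simp only [Matrix.mulVec_add]
    exact hf.bilinear.add_left _ _ _
  · intro a u v
    simp only [Matrix.mulVec_smul]
    exact hf.bilinear.smul_left _ _ _
  · intro v a b
    simp only [Matrix.mulVec_add]
    exact hf.bilinear.add_right _ _ _
  · intro a u v
    simp only [Matrix.mulVec_smul]
    exact hf.bilinear.smul_right _ _ _
  · intro v w
    exact hf.skew _ _
  · intro v
    exact hf.alternating _
  · intro v hv
    have hv' : Pi *ᵥ v ≠ 0 := by
      intro h0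
      apply hv
      have := congrArg (fun w => Pm *ᵥ w) h0
      simpa [Matrix.mulVec_mulVec, hPPi] using this
    obtain ⟨⟨y, hy⟩, ⟨y', hy'⟩⟩ := hf.nondegenerate _ hv'
    refine ⟨⟨Pm *ᵥ y, ?_⟩, ⟨Pm *ᵥ y', ?_⟩⟩
    · simpa [Matrix.mulVec_mulVec, hPiP] using hy
    · simpa [Matrix.mulVec_mulVec, hPiP] using hy'
  · intro u v
    have h1 := hc (Pi *ᵥ u) (Pi *ᵥ v)
    have h2 : ((Matrix.SpecialLinearGroup.toGL (P⁻¹ * x * P) : GL (Fin n) F) :
        Matrix (Fin n) (Fin n) F) = Pi * (x : Matrix (Fin n) (Fin n) F) * Pm := by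
      rw [Matrix.SpecialLinearGroup.coe_GL_coe_matrix, Matrix.SpecialLinearGroup.coe_mul,
        Matrix.SpecialLinearGroup.coe_mul]
    rw [h2] at h1
    have h3 : ∀ w : Fin n → F, (Pi * (x : Matrix (Fin n) (Fin n) F) * Pm) *ᵥ (Pi *ᵥ w)
        = Pi *ᵥ ((x : Matrix (Fin n) (Fin n) F) *ᵥ w) := by
      intro w
      rw [Matrix.mulVec_mulVec, Matrix.mul_assoc, hPPi, Matrix.mul_one, ← Matrix.mulVec_mulVec]
    rw [h3, h3] at h1
    exact h1

/-- Gram data of a symplectic function form. -/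
structure Gram (f' : (Fin n → F) → (Fin n → F) → F) (G : Fin n → Fin n → F) : Prop where
  eq : ∀ u v : Fin n → F, f' u v = ∑ i, ∑ j, u i * G i j * v j
  diag : ∀ i, G i i = 0
  skew : ∀ i j, G j i = - G i j
  nd : ∀ v : Fin n → F, v ≠ 0 → ∃ j, ∑ i, v i * G i j ≠ 0

theorem f_sum_left {f' : (Fin n → F) → (Fin n → F) → F} (hf : Cfsg.Geo.IsBilinearForm f')
    {ι : Type*} (s : Finset ι) (g : ι → Fin n → F) (v : Fin n → F) :
    f' (∑ i ∈ s, g i) v = ∑ i ∈ s, f' (g i) v := by
  classical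
  induction s using Finset.induction_on with
  | empty =>
    simp only [Finset.sum_empty]
    have := hf.smul_left 0 0 v
    simpa using this
  | insert a s ha ih => rw [Finset.sum_insert ha, Finset.sum_insert ha, hf.add_left, ih]

theorem f_sum_right {f' : (Fin n → F) → (Fin n → F) → F} (hf : Cfsg.Geo.IsBilinearForm f')
    {ι : Type*} (s : Finset ι) (g : ι → Fin n → F) (v : Fin n → F) :
    f' v (∑ i ∈ s, g i) = ∑ i ∈ s, f' v (g i) := by
  classical
  induction s using Finset.induction_on with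
  | empty =>
    simp only [Finset.sum_empty]
    have := hf.smul_right 0 v 0
    simpa using this
  | insert a s ha ih => rw [Finset.sum_insert ha, Finset.sum_insert ha, hf.add_right, ih]

theorem exists_gram {f' : (Fin n → F) → (Fin n → F) → F} (hf : Cfsg.Geo.IsSymplecticForm f') :
    Gram f' (fun i j => f' (Pi.single i 1) (Pi.single j 1)) := by
  have hdec : ∀ u : Fin n → F, u = ∑ i, u i • (Pi.single i (1 : F) : Fin n → F) := by
    intro u
    ext k
    simp [Finset.sum_apply, Pi.single_apply]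
  have heq : ∀ u v : Fin n → F, f' u v =
      ∑ i, ∑ j, u i * f' (Pi.single i 1) (Pi.single j 1) * v j := by
    intro u v
    conv_lhs => rw [hdec u, hdec v]
    rw [f_sum_left hf.bilinear]
    refine Finset.sum_congr rfl fun i _ => ?_
    rw [f_sum_right hf.bilinear]
    refine Finset.sum_congr rfl fun j _ => ?_
    rw [hf.bilinear.smul_left, hf.bilinear.smul_right]
    ring
  refine ⟨heq, fun i => hf.alternating _, fun i j => hf.skew _ _, ?_⟩
  intro v hv
  obtain ⟨-, ⟨y, hy⟩⟩ := hf.nondegenerate v hv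
  by_contra hcon
  push_neg at hcon
  apply hy
  rw [heq]
  rw [Finset.sum_comm]
  refine Finset.sum_eq_zero fun j _ => ?_
  rw [← Finset.sum_mul, hcon j, zero_mul]

end Cfsg.Agent.Lib.Helper5.Sy68
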