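import Mathlib
import Cfsg.Prelude.Def_GeometricClasses
import Cfsg.Agent.Lib.Helper5.Sy68.Form

set_option autoImplicit false

/-! The unipotent element with one Jordan block of size three is a similarity of no symplectic form. -/

namespace Cfsg.Agent.Lib.Helper5.Sy68

open Matrix

variable {F : Type*} [Field F] {n : ℕ}

/-- the standard basis vector -/
def ee (i : Fin n) : Fin n → F := Pi.single i 1

theorem ee_ne_zero (i : Fin n) : (ee i : Fin n → F) ≠ 0 := by
  intro h
  have := congrFun h i
  simp [ee] at this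

theorem exists_g_ne_zero {f' : (Fin n → F) → (Fin n → F) → F} (hf : Cfsg.Geo.IsSymplecticForm f')
    (i : Fin n) : ∃ j, f' (ee i) (ee j) ≠ 0 := by
  obtain ⟨j, hj⟩ := (exists_gram hf).nd (ee i) (ee_ne_zero i)
  refine ⟨j, ?_⟩
  intro h0
  apply hj
  rw [Finset.sum_eq_single i]
  · simp only [ee, Pi.single_eq_same, one_mul]
    exact h0
  · intro b _ hb
    simp [ee, Pi.single_apply, hb]
  · intro h
    exact absurd (Finset.mem_univ i) h

/-- The unipotent matrix `1 + E_{i0 i1} + E_{i1 i2}`. -/
def unipMat (i0 i1 i2 : Fin n) : Matrix (Fin n) (Fin n) F :=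
  1 + Matrix.single i0 i1 (1 : F) + Matrix.single i1 i2 1

theorem unipMat_mulVec (i0 i1 i2 : Fin n) (w : Fin n → F) :
    unipMat i0 i1 i2 *ᵥ w = w + w i1 • ee i0 + w i2 • ee i1 := by
  unfold unipMat ee
  rw [Matrix.add_mulVec, Matrix.add_mulVec, Matrix.one_mulVec, Matrix.single_mulVec_eq,
    Matrix.single_mulVec_eq, one_mul, one_mul]

theorem unipMat_ee (i0 i1 i2 j : Fin n) :
    unipMat i0 i1 i2 *ᵥ (ee j : Fin n → F) =
      ee j + (if j = i1 then ee i0 else 0) + (if j = i2 then ee i1 else 0) := by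
  rw [unipMat_mulVec]
  congr 1
  · congr 1
    by_cases h : j = i1
    · subst h
      simp [ee]
    · simp [ee, Pi.single_apply, h, Ne.symm h]
  · by_cases h : j = i2
    · subst h
      simp [ee]
    · simp [ee, Pi.single_apply, h, Ne.symm h]

theorem no_form_unip (i0 i1 i2 : Fin n) (h01 : i0 ≠ i1) (h02 : i0 ≠ i2) (h12 : i1 ≠ i2) :
    ¬ HasForm (unipMat i0 i1 i2 : Matrix (Fin n) (Fin n) F) := by
  rintro ⟨f', hf, c, hc0, hsim⟩
  have hb := hf.bilinear
  have X0 : unipMat i0 i1 i2 *ᵥ (ee i0 : Fin n → F) = ee i0 := by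
    rw [unipMat_ee, if_neg h01, if_neg h02, add_zero, add_zero]
  have X1 : unipMat i0 i1 i2 *ᵥ (ee i1 : Fin n → F) = ee i1 + ee i0 := by
    rw [unipMat_ee, if_pos rfl, if_neg h12, add_zero]
  have X2 : unipMat i0 i1 i2 *ᵥ (ee i2 : Fin n → F) = ee i2 + ee i1 := by
    rw [unipMat_ee, if_neg (Ne.symm h12), if_pos rfl, add_zero]
  have Xj : ∀ j, j ≠ i1 → j ≠ i2 → unipMat i0 i1 i2 *ᵥ (ee j : Fin n → F) = ee j := by
    intro j h1 h2
    rw [unipMat_ee, if_neg h1, if_neg h2, add_zero, add_zero]
  set g : Fin n → Fin n → F := fun i j => f' (ee i) (ee j) with hg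
  have g00 : g i0 i0 = 0 := hf.alternating _
  have g11 : g i1 i1 = 0 := hf.alternating _
  -- equations from `e i0`
  have E0j : ∀ j, j ≠ i1 → j ≠ i2 → g i0 j = c * g i0 j := by
    intro j h1 h2
    have := hsim (ee i0) (ee j)
    rw [X0, Xj j h1 h2] at this
    exact this
  have E01 : g i0 i1 = c * g i0 i1 := by
    have := hsim (ee i0) (ee i1)
    rw [X0, X1, hb.add_right] at this
    simp only [hg]
    rw [← this]
    have : f' (ee i0) (ee i0) = 0 := hf.alternating _
    rw [this, add_zero]
  have E02 : g i0 i2 + g i0 i1 = c * g i0 i2 := by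
    have := hsim (ee i0) (ee i2)
    rw [X0, X2, hb.add_right] at this
    exact this
  obtain ⟨j, hj⟩ := exists_g_ne_zero hf i0
  change g i0 j ≠ 0 at hj
  by_cases hc1 : c = 1
  · subst hc1
    -- c = 1
    have h01' : g i0 i1 = 0 := by
      have := E02
      rw [one_mul] at this
      exact (add_eq_left.mp this)
    have E1j : ∀ j, j ≠ i1 → j ≠ i2 → g i0 j = 0 := by
      intro j h1 h2
      have := hsim (ee i1) (ee j)
      rw [X1, Xj j h1 h2, hb.add_left, one_mul] at this
      exact (add_eq_left.mp this)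
    have h02' : g i0 i2 = 0 := by
      have := hsim (ee i1) (ee i2)
      rw [X1, X2, hb.add_left, hb.add_right, hb.add_right, one_mul] at this
      change g i1 i2 + g i1 i1 + (g i0 i2 + g i0 i1) = g i1 i2 at this
      rw [g11, h01', add_zero, add_zero] at this
      exact (add_eq_left.mp this)
    by_cases hj1 : j = i1
    · subst hj1
      exact hj h01'
    by_cases hj2 : j = i2
    · subst hj2
      exact hj h02'
    exact hj (E1j j hj1 hj2)
  · have key : ∀ a : F, a = c * a → a = 0 := by
      intro a ha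
      have : (1 - c) * a = 0 := by
        rw [sub_mul, one_mul, ← ha, sub_self]
      rcases mul_eq_zero.mp this with h | h
      · exact absurd (sub_eq_zero.mp h).symm hc1
      · exact h
    have h01' : g i0 i1 = 0 := key _ E01
    have h02' : g i0 i2 = 0 := by
      apply key
      rw [h01', add_zero] at E02
      exact E02
    by_cases hj1 : j = i1
    · subst hj1
      exact hj h01'
    by_cases hj2 : j = i2
    · subst hj2
      exact hj h02'
    exact hj (key _ (E0j j hj1 hj2))

end Cfsg.Agent.Lib.Helper5.Sy68
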