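import Mathlib
import Cfsg.Prelude.Def_GeometricClasses
import Cfsg.Agent.Lib.Helper5.Sy68.Unip
import Cfsg.Agent.Lib.Helper9.GSpInv2

set_option autoImplicit false

/-! A block element `C ⊕ 1` with `C - c` invertible for every scalar `c` and `C` of odd size is a
similarity of no symplectic form. -/

namespace Cfsg.Agent.Lib.Helper5.Sy68

open Matrix

variable {F : Type*} [Field F] {n : ℕ}

section gram
variable {α : Type*} [Fintype α] [DecidableEq α]

theorem reindex_mulVec_ee (ι : α ≃ Fin n) (B : Matrix α α F) (b : α) :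
    (Matrix.reindex ι ι B) *ᵥ (ee (ι b) : Fin n → F) = ∑ a, B a b • (ee (ι a) : Fin n → F) := by
  ext i
  rw [ee, Matrix.mulVec_single_one]
  simp only [Matrix.col_apply, Matrix.reindex_apply, Matrix.submatrix_apply, Equiv.symm_apply_apply,
    Finset.sum_apply, Pi.smul_apply, smul_eq_mul, ee, Pi.single_apply]
  rw [Finset.sum_eq_single (ι.symm i)]
  · simp
  · intro a _ ha
    have : i ≠ ι a := by
      intro h
      apply ha
      rw [h, Equiv.symm_apply_apply]
    simp [this]
  · intro h
    exact absurd (Finset.mem_univ _) h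

/-- The Gram matrix in the reindexed basis. -/
def gramOf (f' : (Fin n → F) → (Fin n → F) → F) (ι : α ≃ Fin n) : Matrix α α F :=
  Matrix.of fun a a' => f' (ee (ι a)) (ee (ι a'))

theorem gram_rel (ι : α ≃ Fin n) (B : Matrix α α F) {f' : (Fin n → F) → (Fin n → F) → F}
    (hf : Cfsg.Geo.IsSymplecticForm f') {c : F}
    (hsim : ∀ u v, f' ((Matrix.reindex ι ι B) *ᵥ u) ((Matrix.reindex ι ι B) *ᵥ v) = c * f' u v) :
    Bᵀ * gramOf f' ι * B = c • gramOf f' ι := by
  ext b b'
  have h := hsim (ee (ι b)) (ee (ι b'))
  rw [reindex_mulVec_ee, reindex_mulVec_ee, f_sum_left hf.bilinear] at h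
  rw [Matrix.smul_apply, smul_eq_mul]
  change _ = c * f' (ee (ι b)) (ee (ι b'))
  rw [← h, Matrix.mul_apply]
  simp only [Matrix.mul_apply, Matrix.transpose_apply, Finset.sum_mul]
  rw [Finset.sum_comm]
  refine Finset.sum_congr rfl fun a _ => ?_
  rw [f_sum_right hf.bilinear]
  refine Finset.sum_congr rfl fun a' _ => ?_
  rw [hf.bilinear.smul_left, hf.bilinear.smul_right]
  simp only [gramOf, Matrix.of_apply]
  ring

end gram

theorem no_form_block {e k : ℕ} (hodd : Odd e) (hk : 1 ≤ k) (ι : Fin e ⊕ Fin k ≃ Fin n)
    (C : Matrix (Fin e) (Fin e) F)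
    (hC : ∀ c : F, ∃ M : Matrix (Fin e) (Fin e) F, (C - c • 1) * M = 1 ∧ M * (C - c • 1) = 1) :
    ¬ HasForm (Matrix.reindex ι ι (Matrix.fromBlocks C 0 0 (1 : Matrix (Fin k) (Fin k) F))) := by
  classical
  rintro ⟨f', hf, c, hc0, hsim⟩
  have hrel := gram_rel ι _ hf hsim
  set G := gramOf f' ι with hG
  set G11 := G.toBlocks₁₁ with h11
  set G12 := G.toBlocks₁₂ with h12
  set G21 := G.toBlocks₂₁ with h21
  set G22 := G.toBlocks₂₂ with h22
  have hGb : G = Matrix.fromBlocks G11 G12 G21 G22 := (Matrix.fromBlocks_toBlocks G).symm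
  rw [hGb, Matrix.fromBlocks_transpose, Matrix.fromBlocks_multiply, Matrix.fromBlocks_multiply,
    Matrix.fromBlocks_smul] at hrel
  simp only [Matrix.transpose_zero, Matrix.transpose_one, Matrix.zero_mul, Matrix.mul_zero,
    add_zero, zero_add, Matrix.one_mul, Matrix.mul_one] at hrel
  rw [Matrix.fromBlocks_inj] at hrel
  obtain ⟨-, r12, -, r22⟩ := hrel
  -- G12 = 0
  have hG12 : G12 = 0 := by
    obtain ⟨M, hM1, -⟩ := hC c
    have h1 : G12ᵀ * (C - c • 1) = 0 := by
      have : (Cᵀ * G12)ᵀ = (c • G12)ᵀ := by rw [r12]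
      rw [Matrix.transpose_mul, Matrix.transpose_transpose, Matrix.transpose_smul] at this
      rw [Matrix.mul_sub, this, Matrix.mul_smul, Matrix.mul_one, sub_self]
    have h2 : G12ᵀ = 0 := by
      calc G12ᵀ = G12ᵀ * ((C - c • 1) * M) := by rw [hM1, Matrix.mul_one]
        _ = 0 := by rw [← Matrix.mul_assoc, h1, Matrix.zero_mul]
    have := congrArg Matrix.transpose h2
    rwa [Matrix.transpose_transpose, Matrix.transpose_zero] at this
  have hskew : ∀ a a', G a' a = - G a a' := fun a a' => hf.skew _ _
  have hG21 : G21 = 0 := by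
    ext b a
    have : G (Sum.inr b) (Sum.inl a) = - G (Sum.inl a) (Sum.inr b) := hskew _ _
    have h0 : G (Sum.inl a) (Sum.inr b) = 0 := by
      have := congrFun (congrFun hG12 a) b
      exact this
    rw [h0, neg_zero] at this
    exact this
  by_cases hc1 : c = 1
  · subst hc1
    -- the restricted form
    let E : (Fin e → F) →ₗ[F] (Fin n → F) :=
      Fintype.linearCombination F (fun a : Fin e => (ee (ι (Sum.inl a)) : Fin n → F))
    have hE : ∀ u : Fin e → F, E u = ∑ a, u a • (ee (ι (Sum.inl a)) : Fin n → F) := fun u =>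
      Fintype.linearCombination_apply F _ u
    have hEa : ∀ (u : Fin e → F) (a : Fin e), E u (ι (Sum.inl a)) = u a := by
      intro u a
      rw [hE, Finset.sum_apply, Finset.sum_eq_single a]
      · simp [ee]
      · intro a' _ ha'
        have : ι (Sum.inl a) ≠ ι (Sum.inl a') := by
          intro h
          apply ha'
          have := ι.injective h
          exact (Sum.inl.inj this).symm
        simp [ee, Pi.single_apply, this]
      · intro h
        exact absurd (Finset.mem_univ _) h
    have hEinj : Function.Injective E := by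
      intro u v huv
      ext a
      rw [← hEa u a, ← hEa v a, huv]
    let Bf : LinearMap.BilinForm F (Fin e → F) :=
      (Cfsg.Agent.Lib.Helper9.H9GSpInv.bfOf f' hf.bilinear).compl₁₂ E E
    have hBf : ∀ u v, Bf u v = f' (E u) (E v) := fun u v => rfl
    have halt : Bf.IsAlt := fun u => hf.alternating _
    have hnd : ∀ u, (∀ v, Bf u v = 0) → u = 0 := by
      intro u hu
      by_contra hu0
      have hEu : E u ≠ 0 := fun h => hu0 (hEinj (by rw [h, map_zero]))
      obtain ⟨j, hj⟩ := (exists_gram hf).nd (E u) hEu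
      apply hj
      have hval : ∑ i, E u i * f' (Pi.single i 1) (Pi.single j 1) = f' (E u) (ee j) := by
        rw [(exists_gram hf).eq]
        refine Finset.sum_congr rfl fun i _ => ?_
        rw [Finset.sum_eq_single j]
        · simp [ee]
        · intro b _ hb
          simp [ee, Pi.single_apply, hb]
        · intro h
          exact absurd (Finset.mem_univ _) h
      rw [hval]
      obtain ⟨a, rfl⟩ := ι.surjective j
      rcases a with a | b
      · have : (ee (ι (Sum.inl a)) : Fin n → F) = E (Pi.single a 1) := by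
          rw [hE, Finset.sum_eq_single a]
          · simp
          · intro a' _ ha'
            simp [Pi.single_apply, ha']
          · intro h
            exact absurd (Finset.mem_univ _) h
        rw [this, ← hBf]
        exact hu _
      · rw [hE, f_sum_left hf.bilinear]
        refine Finset.sum_eq_zero fun a _ => ?_
        rw [hf.bilinear.smul_left]
        have h0 : G (Sum.inl a) (Sum.inr b) = 0 := by
          have := congrFun (congrFun hG12 a) b
          exact this
        have h1 : f' (ee (ι (Sum.inl a))) (ee (ι (Sum.inr b))) = 0 := h0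
        rw [h1, mul_zero]
    have heven := Cfsg.Agent.Lib.Helper9.H9AltForm.even_finrank_of_nondegenerate halt hnd
    rw [Module.finrank_pi, Fintype.card_fin] at heven
    exact (Nat.not_even_iff_odd.mpr hodd) heven
  · -- c ≠ 1 : G22 = 0
    have hG22 : G22 = 0 := by
      have h1 : (1 - c) • G22 = 0 := by
        rw [sub_smul, one_smul, ← r22, sub_self]
      rcases smul_eq_zero.mp h1 with h | h
      · exact absurd (sub_eq_zero.mp h).symm hc1
      · exact h
    have b0 : Fin k := ⟨0, by omega⟩
    obtain ⟨j, hj⟩ := exists_g_ne_zero hf (ι (Sum.inr b0))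
    obtain ⟨a, rfl⟩ := ι.surjective j
    apply hj
    rcases a with a | b
    · have := congrFun (congrFun hG21 b0) a
      exact this
    · have := congrFun (congrFun hG22 b0) b
      exact this

end Cfsg.Agent.Lib.Helper5.Sy68
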