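import Mathlib

set_option autoImplicit false

/-! A matrix with prescribed irreducible minimal polynomial: multiplication by the root in
`AdjoinRoot m`. -/

namespace Cfsg.Agent.Lib.Helper5.Sy68

open Polynomial

variable {F : Type*} [Field F]

theorem exists_compMat (m : F[X]) (hirr : Irreducible m) (hdeg : 2 ≤ m.natDegree) (r : ℕ)
    (hdvd : m ∣ X ^ r - 1) :
    ∃ C : Matrix (Fin m.natDegree) (Fin m.natDegree) F, C ^ r = 1 ∧
      ∀ c : F, ∃ M : Matrix (Fin m.natDegree) (Fin m.natDegree) F,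
        (C - c • 1) * M = 1 ∧ M * (C - c • 1) = 1 := by
  classical
  haveI : Fact (Irreducible m) := ⟨hirr⟩
  have hm0 : m ≠ 0 := hirr.ne_zero
  let pb := AdjoinRoot.powerBasis hm0
  let b : Module.Basis (Fin m.natDegree) F (AdjoinRoot m) := pb.basis
  let L : AdjoinRoot m →ₐ[F] Matrix (Fin m.natDegree) (Fin m.natDegree) F := Algebra.leftMulMatrix b
  refine ⟨L (AdjoinRoot.root m), ?_, ?_⟩
  · rw [← map_pow]
    have h1 : (AdjoinRoot.root m) ^ r = 1 := by
      obtain ⟨g, hg⟩ := hdvd
      have h2 : aeval (AdjoinRoot.root m) (X ^ r - 1 : F[X]) = 0 := by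
        rw [hg, map_mul, AdjoinRoot.aeval_eq, AdjoinRoot.mk_self, zero_mul]
      rw [map_sub, map_pow, aeval_X, map_one, sub_eq_zero] at h2
      exact h2
    rw [h1, map_one]
  · intro c
    have hne : AdjoinRoot.root m - algebraMap F (AdjoinRoot m) c ≠ 0 := by
      intro h0
      have h1 : AdjoinRoot.mk m (X - C c) = 0 := by
        rw [map_sub, AdjoinRoot.mk_X, AdjoinRoot.mk_C]
        exact h0
      rw [AdjoinRoot.mk_eq_zero] at h1
      have h2 := Polynomial.natDegree_le_of_dvd h1 (Polynomial.X_sub_C_ne_zero c)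
      rw [Polynomial.natDegree_X_sub_C] at h2
      omega
    have hL : L (AdjoinRoot.root m - algebraMap F (AdjoinRoot m) c) = L (AdjoinRoot.root m) - c • 1 := by
      rw [map_sub, AlgHom.commutes, Algebra.algebraMap_eq_smul_one]
    refine ⟨L (AdjoinRoot.root m - algebraMap F (AdjoinRoot m) c)⁻¹, ?_, ?_⟩
    · rw [← hL, ← map_mul, mul_inv_cancel₀ hne, map_one]
    · rw [← hL, ← map_mul, inv_mul_cancel₀ hne, map_one]

end Cfsg.Agent.Lib.Helper5.Sy68
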