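import Mathlib
import Cfsg.Prelude.Def_GeometricClasses
import Cfsg.Agent.Lib.Helper5.Sy68.Unip

set_option autoImplicit false

/-! Diagonal elements that are similarities of no symplectic form. -/

namespace Cfsg.Agent.Lib.Helper5.Sy68

open Matrix

variable {F : Type*} [Field F] {n : ℕ}

theorem diagonal_mulVec_ee (d : Fin n → F) (j : Fin n) :
    Matrix.diagonal d *ᵥ (ee j : Fin n → F) = d j • ee j := by
  ext k
  simp only [ee, Matrix.mulVec_single_one, Matrix.col_apply, Matrix.diagonal_apply, Pi.smul_apply,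
    Pi.single_apply, smul_eq_mul]
  by_cases h : k = j
  · subst h
    simp
  · simp [h]

/-- Consequences of a diagonal matrix being a similarity. -/
theorem diag_rel {d : Fin n → F} {f' : (Fin n → F) → (Fin n → F) → F}
    (hf : Cfsg.Geo.IsSymplecticForm f') {c : F}
    (hsim : ∀ u v, f' (Matrix.diagonal d *ᵥ u) (Matrix.diagonal d *ᵥ v) = c * f' u v)
    (i j : Fin n) (hij : f' (ee i) (ee j) ≠ 0) : d i * d j = c := by
  have h := hsim (ee i) (ee j)
  rw [diagonal_mulVec_ee, diagonal_mulVec_ee, hf.bilinear.smul_left, hf.bilinear.smul_right,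
    ← mul_assoc] at h
  exact mul_right_cancel₀ hij h

/-- An isotropic set of coordinate vectors has at most `n / 2` members. -/
theorem isotropic_card_le {f' : (Fin n → F) → (Fin n → F) → F}
    (hf : Cfsg.Geo.IsSymplecticForm f') (S : Finset (Fin n))
    (hS : ∀ i j, i ∈ S → j ∈ S → f' (ee i) (ee j) = 0) : 2 * S.card ≤ n := by
  classical
  by_contra hlt
  push_neg at hlt
  set g : Fin n → Fin n → F := fun i j => f' (ee i) (ee j) with hg
  have hG := exists_gram hf
  -- the linear map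
  let Φ : (Fin n → F) →ₗ[F] (({k // k ∉ S} → F) × ({k // k ∉ S} → F)) :=
    { toFun := fun v => (fun k => v k.1, fun k => ∑ i, v i * g i k.1)
      map_add' := by
        intro v w
        ext k
        · simp
        · simp [add_mul, Finset.sum_add_distrib]
      map_smul' := by
        intro a v
        ext k
        · simp
        · simp [Finset.mul_sum, mul_assoc] }
  have hdim : Module.finrank F (({k // k ∉ S} → F) × ({k // k ∉ S} → F)) <
      Module.finrank F (Fin n → F) := by
    rw [Module.finrank_prod, Module.finrank_pi, Module.finrank_pi, Fintype.card_fin,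
      Fintype.card_subtype_compl, Fintype.card_fin]
    simp only [Fintype.card_coe]
    have : S.card ≤ n := by
      have := Finset.card_le_univ S
      simpa using this
    omega
  have hker := LinearMap.ker_ne_bot_of_finrank_lt (f := Φ) hdim
  obtain ⟨v, hv, hv0⟩ := Submodule.exists_mem_ne_zero_of_ne_bot hker
  rw [LinearMap.mem_ker] at hv
  have hv1 : ∀ k, k ∉ S → v k = 0 := by
    intro k hk
    have := congrFun (congrArg Prod.fst hv) ⟨k, hk⟩
    exact this
  have hv2 : ∀ k, k ∉ S → ∑ i, v i * g i k = 0 := by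
    intro k hk
    have := congrFun (congrArg Prod.snd hv) ⟨k, hk⟩
    exact this
  obtain ⟨j, hj⟩ := hG.nd v hv0
  apply hj
  by_cases hjS : j ∈ S
  · refine Finset.sum_eq_zero fun i _ => ?_
    by_cases hiS : i ∈ S
    · have := hS i j hiS hjS
      unfold ee at this
      rw [this, mul_zero]
    · rw [hv1 i hiS, zero_mul]
  · exact hv2 j hjS

theorem bipartite_card {f' : (Fin n → F) → (Fin n → F) → F}
    (hf : Cfsg.Geo.IsSymplecticForm f') (S : Finset (Fin n))
    (hS : ∀ i j, i ∈ S → j ∈ S → f' (ee i) (ee j) = 0)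
    (hS' : ∀ i j, i ∉ S → j ∉ S → f' (ee i) (ee j) = 0) : 2 * S.card = n := by
  classical
  have h1 := isotropic_card_le hf S hS
  have h2 := isotropic_card_le hf Sᶜ (fun i j hi hj => hS' i j (Finset.mem_compl.mp hi)
    (Finset.mem_compl.mp hj))
  rw [Finset.card_compl, Fintype.card_fin] at h2
  have : S.card ≤ n := by
    have := Finset.card_le_univ S
    simpa using this
  omega

/-- The diagonal entries for the case `r = 3`. -/
def d3 (ω : F) (i : Fin n) : F := if i.val < 3 then ω else 1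

theorem no_form_d3 (hn : 4 ≤ n) (hn6 : n ≠ 6) (ω : F) (hω : ω ^ 3 = 1) (hω1 : ω ≠ 1) :
    ¬ HasForm (Matrix.diagonal (d3 ω) : Matrix (Fin n) (Fin n) F) := by
  classical
  rintro ⟨f', hf, c, hc0, hsim⟩
  have hrel := diag_rel hf hsim
  have hω2 : ω ^ 2 ≠ 1 := by
    intro h
    apply hω1
    have : ω ^ 3 = ω := by rw [pow_succ, h, one_mul]
    rw [← this, hω]
  have hωω : ω * ω ≠ ω := by
    intro h
    apply hω1
    have hω0 : ω ≠ 0 := by
      intro h0
      rw [h0] at hω
      simp at hω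
    exact mul_left_cancel₀ hω0 (by rw [h, mul_one])
  -- row 3
  have i3 : (3 : ℕ) < n := by omega
  obtain ⟨j, hj⟩ := exists_g_ne_zero hf (⟨3, i3⟩ : Fin n)
  have e3 := hrel _ _ hj
  have hd3 : d3 ω (⟨3, i3⟩ : Fin n) = 1 := by simp [d3]
  rw [hd3, one_mul] at e3
  -- row 0
  have i0 : (0 : ℕ) < n := by omega
  obtain ⟨k, hk⟩ := exists_g_ne_zero hf (⟨0, i0⟩ : Fin n)
  have e0 := hrel _ _ hk
  have hd0 : d3 ω (⟨0, i0⟩ : Fin n) = ω := by simp [d3]
  rw [hd0] at e0
  have hc : c = ω := by
    by_cases hj3 : j.val < 3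
    · rw [← e3]
      simp [d3, hj3]
    · have hc1 : c = 1 := by
        rw [← e3]
        simp [d3, hj3]
      exfalso
      by_cases hk3 : k.val < 3
      · have : d3 ω k = ω := by simp [d3, hk3]
        rw [this, hc1] at e0
        apply hω2
        rw [pow_two]
        exact e0
      · have : d3 ω k = 1 := by simp [d3, hk3]
        rw [this, hc1, mul_one] at e0
        exact hω1 e0
  subst hc
  have hcard := bipartite_card hf (Finset.univ.filter fun i : Fin n => i.val < 3) (by
    intro a b ha hb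
    by_contra hne
    have := hrel a b hne
    simp only [Finset.mem_filter, Finset.mem_univ, true_and] at ha hb
    simp only [d3, ha, hb, if_true] at this
    exact hωω this) (by
    intro a b ha hb
    by_contra hne
    have := hrel a b hne
    simp only [Finset.mem_filter, Finset.mem_univ, true_and] at ha hb
    simp only [d3, ha, hb, if_false, mul_one] at this
    exact hω1 this.symm)
  have hc3 : (Finset.univ.filter fun i : Fin n => i.val < 3).card = 3 := by
    have : (Finset.univ.filter fun i : Fin n => i.val < 3) =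
        (Finset.univ : Finset (Fin 3)).map ⟨fun i => (⟨i.val, by omega⟩ : Fin n), by
          intro a b hab
          simp only [Fin.mk.injEq] at hab
          exact Fin.ext hab⟩ := by
      ext i
      simp only [Finset.mem_filter, Finset.mem_univ, true_and, Finset.mem_map,
        Function.Embedding.coeFn_mk]
      constructor
      · intro hi
        exact ⟨⟨i.val, hi⟩, Fin.ext rfl⟩
      · rintro ⟨a, rfl⟩
        exact a.2
    rw [this, Finset.card_map, Finset.card_univ, Fintype.card_fin]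
  omega

/-- The diagonal entries for the case `r ≥ 5`. -/
def d5 (ζ : F) (r : ℕ) (i : Fin n) : F :=
  if i.val < 2 then ζ else if i.val = 2 then ζ ^ (r - 2) else 1

theorem no_form_d5 (hn : 4 ≤ n) (ζ : F) (r : ℕ) (hr : 5 ≤ r) (hζ : orderOf ζ = r) :
    ¬ HasForm (Matrix.diagonal (d5 ζ r) : Matrix (Fin n) (Fin n) F) := by
  classical
  rintro ⟨f', hf, c, hc0, hsim⟩
  have hrel := diag_rel hf hsim
  have hne : ∀ a b : ℕ, b < a → a - b < r → ζ ^ a ≠ ζ ^ b := by
    intro a b hab hlt h
    have h1 : ζ ^ (a - b) = 1 := by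
      have hζ0 : ζ ≠ 0 := by
        intro h0
        rw [h0, orderOf_zero] at hζ
        omega
      have : ζ ^ (a - b) * ζ ^ b = 1 * ζ ^ b := by
        rw [← pow_add, Nat.sub_add_cancel hab.le, one_mul, h]
      exact mul_right_cancel₀ (pow_ne_zero _ hζ0) this
    have h2 := orderOf_dvd_of_pow_eq_one h1
    rw [hζ] at h2
    have := Nat.le_of_dvd (by omega) h2
    omega
  -- rows 0, 2, 3
  have i0 : (0 : ℕ) < n := by omega
  have i2 : (2 : ℕ) < n := by omega
  have i3 : (3 : ℕ) < n := by omega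
  obtain ⟨j0, hj0⟩ := exists_g_ne_zero hf (⟨0, i0⟩ : Fin n)
  obtain ⟨j2, hj2⟩ := exists_g_ne_zero hf (⟨2, i2⟩ : Fin n)
  obtain ⟨j3, hj3⟩ := exists_g_ne_zero hf (⟨3, i3⟩ : Fin n)
  have e0 := hrel _ _ hj0
  have e2 := hrel _ _ hj2
  have e3 := hrel _ _ hj3
  have hd0 : d5 ζ r (⟨0, i0⟩ : Fin n) = ζ ^ 1 := by simp [d5]
  have hd2 : d5 ζ r (⟨2, i2⟩ : Fin n) = ζ ^ (r - 2) := by simp [d5]
  have hd3 : d5 ζ r (⟨3, i3⟩ : Fin n) = ζ ^ 0 := by simp [d5]
  have j0ne : j0 ≠ ⟨0, i0⟩ := by
    rintro rfl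
    exact hj0 (hf.alternating _)
  have j2ne : j2 ≠ ⟨2, i2⟩ := by
    rintro rfl
    exact hj2 (hf.alternating _)
  have j3ne : j3 ≠ ⟨3, i3⟩ := by
    rintro rfl
    exact hj3 (hf.alternating _)
  have hval : ∀ j : Fin n, (j.val < 2 ∧ d5 ζ r j = ζ ^ 1) ∨ (j.val = 2 ∧ d5 ζ r j = ζ ^ (r - 2)) ∨
      (2 < j.val ∧ d5 ζ r j = ζ ^ 0) := by
    intro j
    by_cases h1 : j.val < 2
    · left
      exact ⟨h1, by simp [d5, h1]⟩
    by_cases h2 : j.val = 2
    · right; left
      exact ⟨h2, by simp [d5, h2]⟩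
    · right; right
      exact ⟨by omega, by simp [d5, h1, h2]⟩
  rw [hd0] at e0
  rw [hd2] at e2
  rw [hd3] at e3
  have hj2v : j2.val ≠ 2 := fun h => j2ne (Fin.ext h)
  rcases hval j2 with ⟨h2a, h2b⟩ | ⟨h2a, h2b⟩ | ⟨h2a, h2b⟩
  · -- c = ζ^(r-1)
    rw [h2b, ← pow_add] at e2
    rcases hval j3 with ⟨h3a, h3b⟩ | ⟨h3a, h3b⟩ | ⟨h3a, h3b⟩
    · rw [h3b, ← pow_add, ← e2] at e3
      exact hne (r - 2 + 1) (0 + 1) (by omega) (by omega) e3.symm
    · rw [h3b, ← pow_add, ← e2] at e3
      exact hne (r - 2 + 1) (0 + (r - 2)) (by omega) (by omega) e3.symm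
    · rw [h3b, ← pow_add, ← e2] at e3
      exact hne (r - 2 + 1) (0 + 0) (by omega) (by omega) e3.symm
  · exact absurd h2a hj2v
  · -- c = ζ^(r-2)
    rw [h2b, ← pow_add] at e2
    rcases hval j0 with ⟨h0a, h0b⟩ | ⟨h0a, h0b⟩ | ⟨h0a, h0b⟩
    · rw [h0b, ← pow_add, ← e2] at e0
      exact hne (r - 2 + 0) (1 + 1) (by omega) (by omega) e0.symm
    · rw [h0b, ← pow_add, ← e2] at e0
      exact hne (1 + (r - 2)) (r - 2 + 0) (by omega) (by omega) e0
    · rw [h0b, ← pow_add, ← e2] at e0
      exact hne (r - 2 + 0) (1 + 0) (by omega) (by omega) e0.symm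

end Cfsg.Agent.Lib.Helper5.Sy68
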