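import Mathlib
import Cfsg.Agent.Lib.Helper5.Sy68.Form
import Cfsg.Agent.Lib.Helper5.Sy68.Unip
import Cfsg.Agent.Lib.Helper5.Sy68.Diag
import Cfsg.Agent.Lib.Helper5.Sy68.Block
import Cfsg.Agent.Lib.Helper5.Sy68.CompMat

set_option autoImplicit false

/-! The elements of prime order used for S5968: determinant one and `r`-th power one. -/

namespace Cfsg.Agent.Lib.Helper5.Sy68

open Matrix

variable {F : Type*} [Field F] {n : ℕ}

/-- a matrix of determinant one without invariant form class is not scalar -/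
theorem not_scalar_of_no_form (hn : 1 ≤ n) (f : (Fin n → F) → (Fin n → F) → F)
    (hf : Cfsg.Geo.IsSymplecticForm f) (X : Matrix (Fin n) (Fin n) F) (hdet : X.det = 1)
    (hnf : ¬ HasForm X) (z : F) : X ≠ z • (1 : Matrix (Fin n) (Fin n) F) := by
  intro h
  apply hnf
  have hz : z ≠ 0 := by
    intro hz0
    rw [h, hz0, zero_smul] at hdet
    have : Nonempty (Fin n) := ⟨⟨0, by omega⟩⟩
    rw [Matrix.det_zero] at hdet
    exact zero_ne_one hdet
  refine ⟨f, hf, z * z, mul_ne_zero hz hz, fun u v => ?_⟩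
  rw [h, Matrix.smul_mulVec, Matrix.smul_mulVec, Matrix.one_mulVec, Matrix.one_mulVec,
    hf.bilinear.smul_left, hf.bilinear.smul_right, mul_assoc]

/-- packaging -/
theorem conclude (hn : 1 ≤ n) (f : (Fin n → F) → (Fin n → F) → F)
    (hf : Cfsg.Geo.IsSymplecticForm f) (r : ℕ) (X : Matrix (Fin n) (Fin n) F) (hdet : X.det = 1)
    (hpow : X ^ r = 1) (hnf : ¬ HasForm X) :
    ∃ x : Matrix.SpecialLinearGroup (Fin n) F,
      (∃ z : F, ((x ^ r : Matrix.SpecialLinearGroup (Fin n) F) : Matrix (Fin n) (Fin n) F) =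
        z • (1 : Matrix (Fin n) (Fin n) F)) ∧
      (∀ z : F, (x : Matrix (Fin n) (Fin n) F) ≠ z • (1 : Matrix (Fin n) (Fin n) F)) ∧
      ∀ P : Matrix.SpecialLinearGroup (Fin n) F, P⁻¹ * x * P ∉
        ((Cfsg.Geo.similarityGroup f).comap (Matrix.SpecialLinearGroup.toGL :
          Matrix.SpecialLinearGroup (Fin n) F →* GL (Fin n) F)) := by
  obtain ⟨x, hx⟩ : ∃ x : Matrix.SpecialLinearGroup (Fin n) F,
      (x : Matrix (Fin n) (Fin n) F) = X := ⟨⟨X, hdet⟩, rfl⟩
  refine ⟨x, ⟨1, ?_⟩, ?_, ?_⟩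
  · rw [Matrix.SpecialLinearGroup.coe_pow, one_smul, hx]
    exact hpow
  · rw [hx]
    exact not_scalar_of_no_form hn f hf X hdet hnf
  · intro P hP
    apply hnf
    rw [← hx]
    exact hasForm_of_conj_mem f hf _ P hP

/-! ### the unipotent element -/

theorem unipMat_det (i0 i1 i2 : Fin n) (h01 : i0 ≠ i1) (h02 : i0 ≠ i2) (h12 : i1 ≠ i2) :
    (unipMat i0 i1 i2 : Matrix (Fin n) (Fin n) F).det = 1 := by
  have h : (unipMat i0 i1 i2 : Matrix (Fin n) (Fin n) F) =
      Matrix.transvection i1 i2 1 * Matrix.transvection i0 i1 1 := by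
    unfold unipMat Matrix.transvection
    rw [mul_add, add_mul, add_mul, one_mul, one_mul, mul_one,
      Matrix.single_mul_single_of_ne _ _ _ _ (Ne.symm h02) _]
    abel
  rw [h, Matrix.det_mul, Matrix.det_transvection_of_ne _ _ h12, Matrix.det_transvection_of_ne _ _ h01,
    one_mul]

theorem unipMat_pow (p : ℕ) [Fact p.Prime] [CharP F p] (hp : 3 ≤ p) (hn : 1 ≤ n)
    (i0 i1 i2 : Fin n) (h01 : i0 ≠ i1) (h02 : i0 ≠ i2) (h12 : i1 ≠ i2) :
    (unipMat i0 i1 i2 : Matrix (Fin n) (Fin n) F) ^ p = 1 := by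
  have : Nonempty (Fin n) := ⟨⟨0, by omega⟩⟩
  set A : Matrix (Fin n) (Fin n) F := Matrix.single i0 i1 1 with hA
  set B : Matrix (Fin n) (Fin n) F := Matrix.single i1 i2 1 with hB
  have hAA : A * A = 0 := Matrix.single_mul_single_of_ne _ _ _ _ (Ne.symm h01) _
  have hAB : A * B = Matrix.single i0 i2 1 := by
    rw [hA, hB, Matrix.single_mul_single_same, one_mul]
  have hBA : B * A = 0 := Matrix.single_mul_single_of_ne _ _ _ _ (Ne.symm h02) _
  have hBB : B * B = 0 := Matrix.single_mul_single_of_ne _ _ _ _ (Ne.symm h12) _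
  have hDA : Matrix.single i0 i2 (1 : F) * A = 0 :=
    Matrix.single_mul_single_of_ne _ _ _ _ (Ne.symm h02) _
  have hDB : Matrix.single i0 i2 (1 : F) * B = 0 :=
    Matrix.single_mul_single_of_ne _ _ _ _ (Ne.symm h12) _
  have hN3 : (A + B) ^ 3 = 0 := by
    have h2 : (A + B) * (A + B) = Matrix.single i0 i2 1 := by
      rw [add_mul, mul_add, mul_add, hAA, hAB, hBA, hBB, zero_add, add_zero, add_zero]
    rw [pow_succ, pow_two, h2, mul_add, hDA, hDB, add_zero]
  have hNp : (A + B) ^ p = 0 := by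
    rw [show p = 3 + (p - 3) by omega, pow_add, hN3, zero_mul]
  have hX : (unipMat i0 i1 i2 : Matrix (Fin n) (Fin n) F) = 1 + (A + B) := by
    unfold unipMat; rw [add_assoc]
  rw [hX, add_pow_char_of_commute p (Commute.one_left _), one_pow, hNp, add_zero]

/-! ### diagonal elements -/

theorem prod_fin_split (g : ℕ → F) (hn : 3 ≤ n) (hg : ∀ k, 3 ≤ k → g k = 1) :
    ∏ i : Fin n, g i.val = g 0 * g 1 * g 2 := by
  rw [Fin.prod_univ_eq_prod_range g n, ← Finset.prod_range_mul_prod_Ico g hn,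
    Finset.prod_eq_one (s := Finset.Ico 3 n), mul_one]
  · simp [Finset.prod_range_succ]
  · intro k hk
    rw [Finset.mem_Ico] at hk
    exact hg k hk.1

theorem d3_det (hn : 4 ≤ n) (ω : F) (hω : ω ^ 3 = 1) :
    (Matrix.diagonal (d3 ω) : Matrix (Fin n) (Fin n) F).det = 1 := by
  rw [Matrix.det_diagonal]
  have h := prod_fin_split (n := n) (fun k => if k < 3 then ω else 1) (by omega)
    (fun k hk => if_neg (by omega))
  unfold d3
  rw [h]
  norm_num
  rw [← hω]; ring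

theorem d3_pow (ω : F) (hω : ω ^ 3 = 1) :
    (Matrix.diagonal (d3 ω) : Matrix (Fin n) (Fin n) F) ^ 3 = 1 := by
  rw [Matrix.diagonal_pow, ← Matrix.diagonal_one]
  congr 1
  ext i
  unfold d3
  simp only [Pi.pow_apply]
  split_ifs
  · exact hω
  · exact one_pow 3

theorem d5_det (hn : 4 ≤ n) (ζ : F) (r : ℕ) (hr : 2 ≤ r) (hζ : ζ ^ r = 1) :
    (Matrix.diagonal (d5 ζ r) : Matrix (Fin n) (Fin n) F).det = 1 := by
  rw [Matrix.det_diagonal]
  have h := prod_fin_split (n := n)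
    (fun k => if k < 2 then ζ else if k = 2 then ζ ^ (r - 2) else 1) (by omega)
    (fun k hk => by rw [if_neg (by omega), if_neg (by omega)])
  unfold d5
  rw [h]
  norm_num
  rw [← hζ]
  conv_rhs => rw [show r = 1 + 1 + (r - 2) by omega]
  rw [pow_add, pow_add, pow_one]

theorem d5_pow (ζ : F) (r : ℕ) (hζ : ζ ^ r = 1) :
    (Matrix.diagonal (d5 ζ r) : Matrix (Fin n) (Fin n) F) ^ r = 1 := by
  rw [Matrix.diagonal_pow, ← Matrix.diagonal_one]
  congr 1
  ext i
  unfold d5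
  simp only [Pi.pow_apply]
  split_ifs
  · exact hζ
  · rw [← pow_mul, mul_comm, pow_mul, hζ, one_pow]
  · exact one_pow r

/-! ### block elements -/

theorem fromBlocks_pow' {e k : ℕ} (C : Matrix (Fin e) (Fin e) F) (m : ℕ) :
    (Matrix.fromBlocks C 0 0 (1 : Matrix (Fin k) (Fin k) F)) ^ m =
      Matrix.fromBlocks (C ^ m) 0 0 1 := by
  induction m with
  | zero => rw [pow_zero, pow_zero, Matrix.fromBlocks_one]
  | succ m ih =>
    rw [pow_succ, ih, Matrix.fromBlocks_multiply, pow_succ]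
    simp

theorem block_pow {e k : ℕ} (ι : Fin e ⊕ Fin k ≃ Fin n) (C : Matrix (Fin e) (Fin e) F) (r : ℕ)
    (hC : C ^ r = 1) :
    (Matrix.reindex ι ι (Matrix.fromBlocks C 0 0 (1 : Matrix (Fin k) (Fin k) F))) ^ r = 1 := by
  have h := map_pow (Matrix.reindexAlgEquiv F F ι)
    (Matrix.fromBlocks C 0 0 (1 : Matrix (Fin k) (Fin k) F)) r
  rw [Matrix.coe_reindexAlgEquiv] at h
  rw [← h, fromBlocks_pow', hC, Matrix.fromBlocks_one]
  simp

theorem block_det [Fintype F] {e k : ℕ} (ι : Fin e ⊕ Fin k ≃ Fin n) (C : Matrix (Fin e) (Fin e) F)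
    (r : ℕ) (hr : 0 < r) (hC : C ^ r = 1) (hcop : Nat.Coprime r (Fintype.card F - 1)) :
    (Matrix.reindex ι ι (Matrix.fromBlocks C 0 0 (1 : Matrix (Fin k) (Fin k) F))).det = 1 := by
  rw [Matrix.det_reindex_self, Matrix.det_fromBlocks_zero₂₁, Matrix.det_one, mul_one]
  have h1 : C.det ^ r = 1 := by rw [← Matrix.det_pow, hC, Matrix.det_one]
  have h0 : C.det ≠ 0 := by
    intro h
    rw [h] at h1
    rw [zero_pow (by omega)] at h1
    exact zero_ne_one h1
  have h2 : C.det ^ (Fintype.card F - 1) = 1 := FiniteField.pow_card_sub_one_eq_one _ h0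
  have h3 := pow_gcd_eq_one.mpr ⟨h1, h2⟩
  rw [Nat.Coprime] at hcop
  rw [hcop, pow_one] at h3
  exact h3

end Cfsg.Agent.Lib.Helper5.Sy68
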