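import Mathlib
import Cfsg.Agent.Lib.Helper5.Sy68.Elements
import Cfsg.Agent.Lib.Helper5.Sy68.ArithA
import Cfsg.Agent.Lib.Helper5.Sy68.ArithB
import Cfsg.Agent.Lib.Helper5.SSOrder3

set_option autoImplicit false

/-! Derangements of odd prime order of `PSL_n(q)` on the cosets of the symplectic-type subgroup. -/

namespace Cfsg.Agent.Lib.Helper5.Sy68

open Matrix Polynomial
open Cfsg.Agent.Lib.Helper5.SSOrder

theorem main {F : Type*} [Field F] [Fintype F] {p : ℕ} [Fact p.Prime] [CharP F p] {q : ℕ}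
    (hq : Fintype.card F = q)
    (n : ℕ) (hn : 4 ≤ n) (he : Even n) (f : (Fin n → F) → (Fin n → F) → F)
    (hf : Cfsg.Geo.IsSymplecticForm f)
    (r : ℕ) [Fact r.Prime] (hr2 : r ≠ 2) (hgap : ¬ (n = 6 ∧ r = 3))
    (hΩ : r ∣ ((Cfsg.Geo.similarityGroup f).comap (Matrix.SpecialLinearGroup.toGL :
      Matrix.SpecialLinearGroup (Fin n) F →* GL (Fin n) F)).index) :
    ∃ x : Matrix.SpecialLinearGroup (Fin n) F,
      (∃ z : F, ((x ^ r : Matrix.SpecialLinearGroup (Fin n) F) : Matrix (Fin n) (Fin n) F) =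
        z • (1 : Matrix (Fin n) (Fin n) F)) ∧
      (∀ z : F, (x : Matrix (Fin n) (Fin n) F) ≠ z • (1 : Matrix (Fin n) (Fin n) F)) ∧
      ∀ P : Matrix.SpecialLinearGroup (Fin n) F, P⁻¹ * x * P ∉
        ((Cfsg.Geo.similarityGroup f).comap (Matrix.SpecialLinearGroup.toGL :
          Matrix.SpecialLinearGroup (Fin n) F →* GL (Fin n) F)) := by
  classical
  obtain ⟨d, rfl⟩ := he
  have hd : 2 ≤ d := by omega
  have hr : r.Prime := Fact.out
  have hq2 : 2 ≤ q := by rw [← hq]; exact Fintype.one_lt_card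
  have hI := index_dvd_main hq (by omega : 1 ≤ d) f hf
  obtain ⟨k, hp, hk⟩ := FiniteField.card F p
  rw [hq] at hk
  have hpq : p ∣ q := by
    rw [hk]; exact dvd_pow_self p k.ne_zero
  by_cases hrq : r ∣ q
  · have hrp : r = p := by
      rw [hk] at hrq
      exact (Nat.prime_dvd_prime_iff_eq hr hp).mp (hr.dvd_of_dvd_pow hrq)
    subst hrp
    have h3 : 3 ≤ r := by have := hr.two_le; omega
    have h01 : (⟨0, by omega⟩ : Fin (d + d)) ≠ ⟨1, by omega⟩ := by
      intro h; simpa using congrArg Fin.val h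
    have h02 : (⟨0, by omega⟩ : Fin (d + d)) ≠ ⟨2, by omega⟩ := by
      intro h; simpa using congrArg Fin.val h
    have h12 : (⟨1, by omega⟩ : Fin (d + d)) ≠ ⟨2, by omega⟩ := by
      intro h; simpa using congrArg Fin.val h
    exact conclude (by omega) f hf r _ (unipMat_det _ _ _ h01 h02 h12)
      (unipMat_pow r h3 (by omega) _ _ _ h01 h02 h12) (no_form_unip _ _ _ h01 h02 h12)
  · obtain ⟨hodd, hle⟩ := ord_of_dvd q d _ hq2 hrq hΩ hI
    have hrp : r ≠ p := by
      rintro rfl; exact hrq hpq
    have hq0 : (q : ZMod r) ≠ 0 := by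
      intro h; exact hrq ((ZMod.natCast_eq_zero_iff q r).mp h)
    by_cases he1 : orderOf (q : ZMod r) = 1
    · have hq1 : (q : ZMod r) = 1 := orderOf_eq_one_iff.mp he1
      have hdvd : r ∣ q - 1 := by
        rw [← ZMod.natCast_eq_zero_iff, Nat.cast_sub (by omega), hq1, Nat.cast_one, sub_self]
      have hcard : Nat.card Fˣ = q - 1 := by
        rw [Nat.card_eq_fintype_card, Fintype.card_units, hq]
      obtain ⟨ζ, hζ⟩ := exists_prime_orderOf_dvd_card' (G := Fˣ) r (by rw [hcard]; exact hdvd)
      have hζF : orderOf (ζ : F) = r := by rw [orderOf_units]; exact hζ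
      have hζr : (ζ : F) ^ r = 1 := by rw [← hζF]; exact pow_orderOf_eq_one _
      by_cases hr3 : r = 3
      · subst hr3
        have hn6 : d + d ≠ 6 := fun h => hgap ⟨h, rfl⟩
        have hζ1 : (ζ : F) ≠ 1 := by
          intro h
          rw [h, orderOf_one] at hζF
          omega
        exact conclude (by omega) f hf 3 _ (d3_det hn _ hζr) (d3_pow _ hζr)
          (no_form_d3 hn hn6 _ hζr hζ1)
      · have h5 : 5 ≤ r := by
          have h2 := hr.two_le
          have h4 : r ≠ 4 := by
            rintro rfl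
            exact absurd hr (by decide)
          omega
        exact conclude (by omega) f hf r _ (d5_det hn _ r hr.two_le hζr) (d5_pow _ r hζr)
          (no_form_d5 hn _ r h5 hζF)
    · have hepos : 0 < orderOf (q : ZMod r) := hodd.pos
      have he3 : 2 ≤ orderOf (q : ZMod r) := by omega
      have hfer : orderOf (q : ZMod r) ∣ r - 1 :=
        orderOf_dvd_of_pow_eq_one (ZMod.pow_card_sub_one_eq_one hq0)
      have hle' : orderOf (q : ZMod r) ≤ r - 1 :=
        Nat.le_of_dvd (by have := hr.two_le; omega) hfer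
      have hcard := card_cycFactors (F := F) hq hr hrp
      obtain ⟨φ, hφ⟩ : (cycFactors r F).Nonempty := by
        rw [← Finset.card_pos, hcard]
        exact Nat.div_pos hle' hepos
      have hdeg := natDegree_of_mem hq hr hrp hφ
      obtain ⟨hmon, hirr, -⟩ := mem_cycFactors.mp hφ
      obtain ⟨C, hCr, hCinv⟩ := exists_compMat φ hirr (by rw [hdeg]; exact he3) r
        (dvd_X_pow_sub_one hr hφ)
      have hk1 : 1 ≤ d + d - φ.natDegree := by rw [hdeg]; omega
      have hsum : φ.natDegree + (d + d - φ.natDegree) = d + d := by rw [hdeg]; omega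
      have hcop : Nat.Coprime r (Fintype.card F - 1) := by
        rw [Nat.Prime.coprime_iff_not_dvd hr, hq]
        intro hdvd
        apply he1
        rw [orderOf_eq_one_iff]
        have h1 : ((q - 1 : ℕ) : ZMod r) = 0 := (ZMod.natCast_eq_zero_iff _ _).mpr hdvd
        rw [Nat.cast_sub (by omega), Nat.cast_one, sub_eq_zero] at h1
        exact h1
      have hodd' : Odd φ.natDegree := by rw [hdeg]; exact hodd
      exact conclude (by omega) f hf r _
        (block_det (finSumFinEquiv.trans (finCongr hsum)) C r hr.pos hCr hcop)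
        (block_pow (finSumFinEquiv.trans (finCongr hsum)) C r hCr)
        (no_form_block hodd' hk1 (finSumFinEquiv.trans (finCongr hsum)) C hCinv)

end Cfsg.Agent.Lib.Helper5.Sy68
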